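import Groth.Agent.Purity.Equiv
import Groth.Agent.Purity.CompFF
import Groth.Agent.LefEssSurj.PurStep
import Groth.Agent.RatExt.Basic
import Groth.Agent.DimOne.Geom
import Groth.Agent.SmLocalST.EtReg
import Groth.Agent.S2258
import Groth.Agent.S0558
import Groth.Agent.S9829
import Groth.Prelude.Def_FEt

/-!
# Birational transfer of finite étale covers between regular schemes proper over a base
-/

set_option autoImplicit false
set_option linter.style.haveILetI false
set_option backward.isDefEq.respectTransparency false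

universe u

open AlgebraicGeometry CategoryTheory Limits TopologicalSpace

namespace Groth.Agent.BiratPi1

/-- Clopen subsets of a dense open extend uniquely when every point has an irreducible open neighbourhood. -/
theorem existsUnique_clopen_of_dense {Z P : Type u} [TopologicalSpace Z] [TopologicalSpace P] {j : P → Z}
    (hj : Topology.IsOpenEmbedding j) (hd : DenseRange j)
    (hirr : ∀ z : Z, ∃ N : Set Z, IsOpen N ∧ z ∈ N ∧ IsIrreducible N) {C : Set P} (hC : IsClopen C) :
    ∃! W : Set Z, IsClopen W ∧ j ⁻¹' W = C := by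
  have hdisj : Disjoint (closure (j '' C)) (closure (j '' Cᶜ)) := by
    rw [Set.disjoint_left]
    intro z h1 h2
    obtain ⟨N, hN, hzN, hNi⟩ := hirr z
    obtain ⟨w, -, ⟨p, hp, rfl⟩, ⟨q, hq, hqp⟩⟩ := hNi.2 _ _ (hj.isOpenMap _ hC.2) (hj.isOpenMap _ hC.compl.2)
      (mem_closure_iff.1 h1 N hN hzN) (mem_closure_iff.1 h2 N hN hzN)
    exact hq (hj.injective hqp ▸ hp)
  have hunion : closure (j '' C) ∪ closure (j '' Cᶜ) = Set.univ := by
    rw [← closure_union, ← Set.image_union, Set.union_compl_self, Set.image_univ]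
    exact hd.closure_range
  have hcompl : (closure (j '' C))ᶜ = closure (j '' Cᶜ) :=
    (IsCompl.of_eq hdisj.eq_bot hunion).compl_eq
  have hpre : j ⁻¹' closure (j '' C) = C := by
    refine Set.Subset.antisymm (fun p hp => by_contra fun hpC =>
      Set.disjoint_left.1 hdisj hp (subset_closure ⟨p, hpC, rfl⟩)) fun p hp => subset_closure ⟨p, hp, rfl⟩
  refine ⟨closure (j '' C), ⟨⟨isClosed_closure, ?_⟩, hpre⟩, ?_⟩
  · rw [← compl_compl (closure (j '' C)), hcompl]
    exact isClosed_closure.isOpen_compl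
  · rintro W ⟨hW, rfl⟩
    rw [Set.image_preimage_eq_inter_range]
    refine Set.Subset.antisymm ?_ (closure_minimal Set.inter_subset_left hW.1)
    exact fun z hz => mem_closure_iff.2 fun O hO hzO => by
      obtain ⟨p, hp⟩ := hd.exists_mem_open (hO.inter hW.2) ⟨z, hzO, hz⟩
      exact ⟨j p, hp.1, hp.2, ⟨p, rfl⟩⟩

theorem isDomain_stalk {X : Scheme.{u}} (hX : ∀ x : X, IsRegularLocalRing (X.presheaf.stalk x)) (x : X) :
    IsDomain (X.presheaf.stalk x) :=
  haveI := hX x
  Groth.Agent.S0558.result _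

/-- On a locally Noetherian regular scheme, restriction of finite étale covers to a dense open is
fully faithful. -/
theorem restrict_ι_full_faithful {X : Scheme.{u}} [IsLocallyNoetherian X]
    (hX : ∀ x : X, IsRegularLocalRing (X.presheaf.stalk x)) (U : X.Opens) (hU : Dense (U : Set X)) :
    (FEt.restrict U.ι).Full ∧ (FEt.restrict U.ι).Faithful := by
  refine Groth.Agent.Purity.restrict_full_faithful_of_clopen U.ι fun Z π hf he C hC => ?_
  haveI := hf
  haveI := he
  haveI : IsLocallyNoetherian Z := LocallyOfFiniteType.isLocallyNoetherian π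
  refine existsUnique_clopen_of_dense (pullback.fst π U.ι).isOpenEmbedding ?_ (fun z => ?_) hC
  · have hr : Set.range (pullback.fst π U.ι) = π ⁻¹' (U : Set X) := by
      rw [IsOpenImmersion.range_pullbackFst, Scheme.Opens.opensRange_ι]
      rfl
    rw [DenseRange, hr]
    exact hU.preimage π.isOpenMap
  · haveI := Groth.Agent.SmLocalST.isRegularLocalRing_stalk_of_etale π z (hX _)
    haveI : IsDomain (Z.presheaf.stalk z) := Groth.Agent.S0558.result _
    obtain ⟨N, hz, hN⟩ := Groth.Agent.S2258.result Z z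
      (by rw [nilradical_eq_zero]; exact Ideal.isPrime_bot)
    exact ⟨N, N.2, hz, hN⟩

/-- A morphism on a dense open of a regular scheme to a scheme proper over the base gives a functor
between categories of finite étale covers, compatible with restriction. -/
theorem exists_functor {S X Y : Scheme.{u}} (f : X ⟶ S) (g : Y ⟶ S) [IsProper g] [IsNoetherian X]
    (hX : ∀ x : X, IsRegularLocalRing (X.presheaf.stalk x)) (U : X.Opens) (hU : Dense (U : Set X))
    (h : U.toScheme ⟶ Y) (hh : h ≫ g = U.ι ≫ f) :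
    ∃ Ψ : FEt.Cat Y ⥤ FEt.Cat X, Nonempty (Ψ ⋙ FEt.restrict U.ι ≅ FEt.restrict h) := by
  haveI : ∀ x : X, _root_.IsReduced (X.presheaf.stalk x) := fun x =>
    haveI := isDomain_stalk hX x
    inferInstance
  haveI : AlgebraicGeometry.IsReduced X := isReduced_of_isReduced_stalk X
  have hext : ∀ x : {x : X // ringKrullDim (X.presheaf.stalk x) ≤ 1},
      ∃ (U' : X.Opens) (hUU' : U ≤ U') (h' : U'.toScheme ⟶ Y),
        x.1 ∈ U' ∧ h' ≫ g = U'.ι ≫ f ∧ X.homOfLE hUU' ≫ h' = h := fun x => by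
    haveI := hX x.1
    haveI := isDomain_stalk hX x.1
    haveI : IsIntegrallyClosed (X.presheaf.stalk x.1) := Groth.Agent.S9829.result _
    exact Groth.Agent.RatExt.exists_hom_nhd g f U hU h hh x.1
      (Groth.Agent.RatExt.valuationRing_of_dim_le_one x.2)
  choose W hUW gW hxW hgW hres using hext
  obtain ⟨X₁, hUX₁, j, -, hj, hWX₁⟩ :=
    Groth.Agent.RatExt.exists_glue_family g f U hU h hh W hUW gW hgW hres
  have hcodim : ∀ x : X, x ∉ X₁ → (2 : WithBot ℕ∞) ≤ ringKrullDim (X.presheaf.stalk x) := by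
    intro x hx
    by_contra hlt
    have h1 : ringKrullDim (X.presheaf.stalk x) ≤ 1 := by
      rw [not_le] at hlt
      revert hlt
      cases ringKrullDim (X.presheaf.stalk x) using WithBot.recBotCoe with
      | bot => exact fun _ => bot_le
      | coe a =>
        intro hlt
        rw [show (2 : WithBot ℕ∞) = ((2 : ℕ∞) : WithBot ℕ∞) from rfl, WithBot.coe_lt_coe] at hlt
        exact WithBot.coe_le_coe.2 (ENat.lt_coe_add_one_iff.1 hlt)
    exact hx (hWX₁ ⟨x, h1⟩ (hxW ⟨x, h1⟩))
  haveI := Groth.Agent.Purity.restrict_isEquivalence X₁ hX hcodim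
  let ι₁ := X.homOfLE hUX₁
  have w : ι₁ ≫ X₁.ι = U.ι := Scheme.homOfLE_ι _ _
  refine ⟨FEt.restrict j ⋙ (FEt.restrict X₁.ι).inv, ⟨?_⟩⟩
  exact Functor.isoWhiskerLeft _ (Groth.Agent.LefEssSurj.restrictComp ι₁ X₁.ι U.ι w) ≪≫
    (Functor.associator _ _ _).symm ≪≫
    Functor.isoWhiskerRight (Functor.associator _ _ _ ≪≫
      Functor.isoWhiskerLeft _ (FEt.restrict X₁.ι).asEquivalence.counitIso ≪≫ Functor.rightUnitor _)
      (FEt.restrict ι₁) ≪≫
    (Groth.Agent.LefEssSurj.restrictComp ι₁ j h hj).symm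

/-- Regular schemes proper over a base with isomorphic dense opens have equivalent finite étale covers. -/
theorem exists_equivalence {S X Y : Scheme.{u}} (f : X ⟶ S) (g : Y ⟶ S) [IsProper f] [IsProper g]
    [IsNoetherian X] [IsNoetherian Y]
    (hX : ∀ x : X, IsRegularLocalRing (X.presheaf.stalk x))
    (hY : ∀ y : Y, IsRegularLocalRing (Y.presheaf.stalk y))
    (U : X.Opens) (V : Y.Opens) (hU : Dense (U : Set X)) (hV : Dense (V : Set Y))
    (e : U.toScheme ≅ V.toScheme) (he : e.hom ≫ V.ι ≫ g = U.ι ≫ f) :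
    ∃ Φ : FEt.Cat X ≌ FEt.Cat Y,
      Nonempty (FEt.restrict U.ι ≅ Φ.functor ⋙ FEt.restrict V.ι ⋙ FEt.restrict e.hom) := by
  obtain ⟨Ψ, ⟨α⟩⟩ := exists_functor f g hX U hU (e.hom ≫ V.ι) (by rw [Category.assoc, he])
  obtain ⟨Φ, ⟨β⟩⟩ := exists_functor g f hY V hV (e.inv ≫ U.ι)
    (by rw [Category.assoc, ← he, e.inv_hom_id_assoc])
  haveI := (restrict_ι_full_faithful hX U hU).1
  haveI := (restrict_ι_full_faithful hX U hU).2
  haveI := (restrict_ι_full_faithful hY V hV).1
  haveI := (restrict_ι_full_faithful hY V hV).2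
  haveI := Groth.Agent.LefEssSurj.restrict_isEquivalence_of_isIso e.hom
  haveI := Groth.Agent.LefEssSurj.restrict_isEquivalence_of_isIso e.inv
  let βc : Φ ⋙ FEt.restrict V.ι ≅ FEt.restrict U.ι ⋙ FEt.restrict e.inv :=
    β ≪≫ Groth.Agent.LefEssSurj.restrictComp e.inv U.ι _ rfl
  let αc : Ψ ⋙ FEt.restrict U.ι ≅ FEt.restrict V.ι ⋙ FEt.restrict e.hom :=
    α ≪≫ Groth.Agent.LefEssSurj.restrictComp e.hom V.ι _ rfl
  let γ : FEt.restrict U.ι ≅ Φ ⋙ FEt.restrict V.ι ⋙ FEt.restrict e.hom :=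
    Groth.Agent.LefEssSurj.restrictComp e.hom (e.inv ≫ U.ι) U.ι (e.hom_inv_id_assoc _) ≪≫
      Functor.isoWhiskerRight β.symm _ ≪≫ Functor.associator _ _ _
  haveI : (Φ ⋙ FEt.restrict V.ι).Full := Functor.Full.of_iso βc.symm
  haveI : (Φ ⋙ FEt.restrict V.ι).Faithful := Functor.Faithful.of_iso βc.symm
  haveI : Φ.Faithful := Functor.Faithful.of_comp Φ (FEt.restrict V.ι)
  haveI : Φ.Full := Functor.Full.of_comp_faithful Φ (FEt.restrict V.ι)
  haveI : Φ.EssSurj := ⟨fun F => ⟨Ψ.obj F, ⟨(FEt.restrict V.ι).preimageIso (βc.app (Ψ.obj F) ≪≫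
    (FEt.restrict e.inv).mapIso (α.app F) ≪≫
      (Groth.Agent.LefEssSurj.restrictComp e.inv (e.hom ≫ V.ι) V.ι (e.inv_hom_id_assoc _)).symm.app F)⟩⟩⟩
  haveI : Φ.IsEquivalence := { }
  exact ⟨Φ.asEquivalence, ⟨γ⟩⟩

end Groth.Agent.BiratPi1
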